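import Mathlib
import Cfsg.Prelude.Def_Local
import Cfsg.Agent.Components.Basic
import Cfsg.Agent.Components.FStar
import Cfsg.Agent.Components.PComponent
import Cfsg.Agent.Components.Perm
import Cfsg.Agent.Lib.Element
import Cfsg.Agent.FGSev.CyclicSylow
import Cfsg.Agent.Transfer.Frobenius

/-!
# Groups with trivial `p'`-core and cyclic Sylow `p`-subgroups

Either the Sylow subgroup is normal and self-centralising, or the generalised Fitting subgroup is
simple of index prime to `p`.
-/

set_option autoImplicit false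

namespace Cfsg.Agent.FGS4

open Subgroup

variable {K : Type*} [Group K] [Finite K] {p : ℕ} [Fact p.Prime]

/-- Every Sylow subgroup is cyclic once one of them is. -/
theorem isCyclic_sylow (P : Sylow p K) (hP : IsCyclic (P : Subgroup K)) (T : Sylow p K) :
    IsCyclic (T : Subgroup K) := by
  haveI := hP
  exact isCyclic_of_surjective (P.equiv T) (P.equiv T).surjective

/-- Two commuting elements of order `p` generate the same subgroup. -/
theorem mem_zpowers_of_commute (P : Sylow p K) (hP : IsCyclic (P : Subgroup K)) {x y : K}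
    (hx : x ^ p = 1) (hy : orderOf y = p) (hxy : Commute x y) : x ∈ zpowers y := by
  have hp : p.Prime := Fact.out
  have hU : IsPGroup p ↥(zpowers x ⊔ zpowers y) := by
    refine IsPGroup.to_sup_of_normal_right' ?_ ?_ ?_
    · intro z
      obtain ⟨k, hk⟩ := mem_zpowers_iff.1 z.2
      refine ⟨1, Subtype.ext ?_⟩
      rw [pow_one, coe_pow, coe_one, ← hk, ← zpow_natCast (x ^ k), ← zpow_mul, mul_comm, zpow_mul,
        zpow_natCast, hx, one_zpow]
    · exact IsPGroup.of_card (n := 1) (by rw [Nat.card_zpowers, hy, pow_one])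
    · rw [zpowers_le, mem_normalizer_iff_map_conj_eq, MonoidHom.map_zpowers]
      show zpowers (x * y * x⁻¹) = _
      rw [hxy.eq, mul_inv_cancel_right]
  obtain ⟨T, hT⟩ := hU.exists_le_sylow
  haveI := isCyclic_sylow P hP T
  letI : CommGroup (T : Subgroup K) := IsCyclic.commGroup
  let E : Subgroup (T : Subgroup K) := (powMonoidHom p).ker
  let x' : (T : Subgroup K) := ⟨x, hT (mem_sup_left (mem_zpowers x))⟩
  let y' : (T : Subgroup K) := ⟨y, hT (mem_sup_right (mem_zpowers y))⟩
  have hxE : x' ∈ E := Subtype.ext hx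
  have hyE : y' ∈ E := Subtype.ext (show y ^ p = 1 by rw [← hy]; exact pow_orderOf_eq_one y)
  have hcard : Nat.card E ≤ p := by
    refine Nat.le_of_dvd hp.pos ?_
    rw [← IsCyclic.exponent_eq_card (α := E), Monoid.exponent_dvd_iff_forall_pow_eq_one]
    intro z
    exact Subtype.ext z.2
  have heq : zpowers y' = E := by
    refine eq_of_le_of_card_ge (zpowers_le.2 hyE) (hcard.trans ?_)
    rw [Nat.card_zpowers, ← orderOf_coe]
    exact le_of_eq hy.symm
  obtain ⟨k, hk⟩ := mem_zpowers_iff.1 (heq ▸ hxE : x' ∈ zpowers y')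
  exact ⟨k, congrArg Subtype.val hk⟩

/-- A perfect group of order divisible by `p` has no normal `p`-complement. -/
theorem not_hasNormalPComplement_of_perfect {X : Type*} [Group X] [Finite X]
    (hperf : commutator X = ⊤) (hp : p ∣ Nat.card X) : ¬ Cfsg.HasNormalPComplement p X := by
  rintro ⟨P, N, hN, hc⟩
  haveI := hN
  have hcard : Nat.card (X ⧸ N) = Nat.card (P : Subgroup X) := by
    rw [← index_eq_card, hc.symm.index_eq_card]
  haveI : Group.IsNilpotent (X ⧸ N) := by
    obtain ⟨k, hk⟩ := IsPGroup.iff_card.1 P.2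
    exact (IsPGroup.of_card (n := k) (hcard.trans hk)).isNilpotent
  haveI : Nontrivial (X ⧸ N) := by
    rw [← Finite.one_lt_card_iff_nontrivial, hcard]
    exact (Subgroup.one_lt_card_iff_ne_bot _).2 (P.ne_bot_of_dvd_card hp)
  refine (Group.IsSolvable.commutator_lt_top_of_nontrivial (X ⧸ N)).ne ?_
  rw [eq_top_iff, ← Subgroup.map_top_of_surjective (QuotientGroup.mk' N) (QuotientGroup.mk'_surjective N),
    ← hperf]
  exact le_of_eq_of_le (Subgroup.map_commutator ⊤ ⊤ _) (Subgroup.commutator_mono le_top le_top)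

/-- The index of a normal subgroup `L` without normal `p`-complement is prime to `p`. -/
theorem not_dvd_index (P : Sylow p K) (hP : IsCyclic (P : Subgroup K)) (L : Subgroup K) [L.Normal]
    (hL : ¬ Cfsg.HasNormalPComplement p L) : ¬ p ∣ L.index := by
  have hp : p.Prime := Fact.out
  suffices hPL : (P : Subgroup K) ≤ L from fun h => P.not_dvd_index (h.trans (index_dvd_of_le hPL))
  obtain ⟨⟨x, hxP⟩, hgen⟩ := IsCyclic.exists_generator (α := (P : Subgroup K))
  have hgen' : ∀ y ∈ (P : Subgroup K), ∃ i : ℤ, x ^ i = y := fun y hy => by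
    obtain ⟨i, hi⟩ := mem_zpowers_iff.1 (hgen ⟨y, hy⟩)
    exact ⟨i, congrArg Subtype.val hi⟩
  by_contra hPL
  have hxL : x ∉ L := fun h => hPL fun y hy => by
    obtain ⟨i, rfl⟩ := hgen' y hy
    exact zpow_mem h i
  have hcommP : ∀ u ∈ (P : Subgroup K), ∀ v ∈ (P : Subgroup K), u * v = v * u := fun u hu v hv => by
    obtain ⟨i, rfl⟩ := hgen' u hu
    obtain ⟨j, rfl⟩ := hgen' v hv
    exact (Commute.refl x).zpow_zpow i j
  -- `P ⊓ L` is a Sylow subgroup of `L`
  set P₀ : Subgroup K := (P : Subgroup K) ⊓ L with hP₀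
  have hP₀p : IsPGroup p ↥(P₀.subgroupOf L) := (P.2.to_le inf_le_left).comap_subtype
  have hP₀card : Nat.card ↥(P₀.subgroupOf L) = p ^ (Nat.card L).factorization p := by
    obtain ⟨Q⟩ : Nonempty (Sylow p L) := inferInstance
    rw [← Q.card_eq_multiplicity]
    refine le_antisymm ?_ ?_
    · obtain ⟨R, hR⟩ := hP₀p.exists_le_sylow
      exact (card_le_of_le hR).trans_eq (Nat.card_congr (R.equiv Q).toEquiv)
    · obtain ⟨T, hT⟩ := (Q.2.map L.subtype).exists_le_sylow
      obtain ⟨g, rfl⟩ := MulAction.exists_smul_eq K P T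
      let f : Q → P₀.subgroupOf L := fun q => ⟨⟨g⁻¹ * q * g,
        Subgroup.Normal.conj_mem' inferInstance _ (q : L).2 g⟩, by
          obtain ⟨y, hy, hyq⟩ := hT ⟨_, q.2, rfl⟩
          refine ⟨?_, Subgroup.Normal.conj_mem' inferInstance _ (q : L).2 g⟩
          have hyq' : g * y * g⁻¹ = ((q : L) : K) := hyq
          show g⁻¹ * ((q : L) : K) * g ∈ (P : Subgroup K)
          rw [← hyq', show g⁻¹ * (g * y * g⁻¹) * g = y by group]
          exact hy⟩
      refine Nat.card_le_card_of_injective f fun u v h => Subtype.ext (Subtype.ext ?_)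
      have h' : g⁻¹ * ((u : L) : K) * g = g⁻¹ * ((v : L) : K) * g :=
        congrArg (fun z : P₀.subgroupOf L => ((z : L) : K)) h
      simpa using h'
  let S : Sylow p L := Sylow.ofCard _ hP₀card
  have hS : (S : Subgroup L) = P₀.subgroupOf L := Sylow.coe_ofCard _ _
  -- some element of `N_L(P₀)` acts nontrivially on `P₀`
  obtain ⟨t, htL, htN, ⟨z, hzP₀, htz⟩⟩ : ∃ t ∈ L, t ∈ normalizer (P₀ : Set K) ∧
      ∃ z ∈ P₀, t * z * t⁻¹ ≠ z := by
    by_contra hno
    push Not at hno
    refine hL (Cfsg.Agent.Transfer.hasNormalPComplement_of_normalizer_le_centralizer S fun t ht => ?_)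
    rw [hS] at ht ⊢
    refine mem_centralizer_iff.2 fun z hz => Subtype.ext ?_
    have htn : (t : K) ∈ normalizer (P₀ : Set K) := by
      rw [mem_normalizer_iff]
      intro w
      by_cases hw : w ∈ L
      · exact mem_normalizer_iff.1 ht ⟨w, hw⟩
      · refine ⟨fun h => absurd h.2 hw, fun h => absurd ?_ hw⟩
        have h' := Subgroup.Normal.conj_mem' inferInstance _ h.2 (t : K)
        rwa [show (t : K)⁻¹ * ((t : K) * w * (t : K)⁻¹) * t = w by group] at h'
    exact (mul_inv_eq_iff_eq_mul.1 (hno t t.2 htn (z : K) hz)).symm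
  -- move `t` into the normaliser of `P`
  set H : Subgroup K := (P : Subgroup K) ⊔ (L ⊓ centralizer (P₀ : Set K)) with hH
  have hPC : (P : Subgroup K) ≤ centralizer (P₀ : Set K) := fun u hu =>
    mem_centralizer_iff.2 fun v hv => hcommP v hv.1 u hu
  have hHC : H ≤ centralizer (P₀ : Set K) := sup_le hPC inf_le_right
  have hPH : (P : Subgroup K) ≤ H := le_sup_left
  have htC : ∀ u ∈ centralizer (P₀ : Set K), t * u * t⁻¹ ∈ centralizer (P₀ : Set K) := by
    intro u hu
    refine mem_centralizer_iff.2 fun v hv => ?_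
    have h1 : t⁻¹ * v * t ∈ P₀ := (mem_normalizer_iff''.1 htN v).1 hv
    calc v * (t * u * t⁻¹) = t * ((t⁻¹ * v * t) * u) * t⁻¹ := by group
      _ = t * (u * (t⁻¹ * v * t)) * t⁻¹ := by rw [mem_centralizer_iff.1 hu _ h1]
      _ = t * u * t⁻¹ * v := by group
  have htPH : ((t • P : Sylow p K) : Subgroup K) ≤ H := by
    rintro _ ⟨u, hu, rfl⟩
    show t * u * t⁻¹ ∈ H
    have hd : t * u * t⁻¹ * u⁻¹ ∈ L ⊓ centralizer (P₀ : Set K) := by
      refine ⟨?_, (centralizer (P₀ : Set K)).mul_mem (htC u (hPC hu)) ((centralizer (P₀ : Set K)).inv_mem (hPC hu))⟩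
      rw [show t * u * t⁻¹ * u⁻¹ = t * (u * t⁻¹ * u⁻¹) by group]
      exact L.mul_mem htL (Subgroup.Normal.conj_mem inferInstance _ (L.inv_mem htL) u)
    rw [show t * u * t⁻¹ = (t * u * t⁻¹ * u⁻¹) * u by group]
    exact mul_mem (mem_sup_right hd) (hPH hu)
  obtain ⟨h, hh⟩ := MulAction.exists_smul_eq H (P.subtype hPH) ((t • P).subtype htPH)
  rw [Sylow.smul_subtype] at hh
  have hh' : (h : K) • P = t • P := Sylow.subtype_injective hh
  have hn : (h : K)⁻¹ * t ∈ normalizer ((P : Subgroup K) : Set K) := by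
    refine Sylow.smul_eq_iff_mem_normalizer.1 ?_
    rw [mul_smul, ← hh', inv_smul_smul]
  -- write `h = u * d` with `u ∈ P` and `d ∈ L`
  obtain ⟨u, hu, d, hd, hud⟩ : ∃ u ∈ (P : Subgroup K), ∃ d ∈ L, d * u = (h : K) := by
    have : (h : K) ∈ (P : Subgroup K) ⊔ L :=
      (sup_le le_sup_left (inf_le_left.trans le_sup_right) :
        H ≤ (P : Subgroup K) ⊔ L) h.2
    rw [sup_comm] at this
    obtain ⟨d, hd, u, hu, h⟩ := mem_sup_of_normal_left.1 this
    exact ⟨u, hu, d, hd, h⟩
  set n := d⁻¹ * t with hndef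
  have hnL : n ∈ L := mul_mem (inv_mem hd) htL
  have hnN : n ∈ normalizer ((P : Subgroup K) : Set K) := by
    have : n = u * ((h : K)⁻¹ * t) := by
      rw [hndef, ← hud]; group
    rw [this]
    exact mul_mem (le_normalizer hu) hn
  have hdC : d ∈ centralizer (P₀ : Set K) := by
    rw [show d = (h : K) * u⁻¹ by rw [← hud]; group]
    exact mul_mem (hHC h.2) (inv_mem (hPC hu))
  have hnz : n * z * n⁻¹ ≠ z := by
    have hz' : t * z * t⁻¹ ∈ P₀ := (mem_normalizer_iff.1 htN z).1 hzP₀
    have : n * z * n⁻¹ = d⁻¹ * (t * z * t⁻¹) * d := by rw [hndef]; group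
    rw [this, mul_assoc, mem_centralizer_iff.1 hdC _ hz', inv_mul_cancel_left]
    exact htz
  -- its `p'`-part still acts nontrivially
  set m := Element.pComplPart p n with hm
  have hmL : m ∈ L := zpowers_le.2 hnL (Element.pComplPart_mem_zpowers p n)
  have hmN : m ∈ normalizer ((P : Subgroup K) : Set K) :=
    zpowers_le.2 hnN (Element.pComplPart_mem_zpowers p n)
  have hwP : Element.pPart p n ∈ (P : Subgroup K) := by
    have hz' := (FGSev.pElem_iff_isPGroup p _).mp ⟨_, Element.orderOf_pPart_eq_pow hp n⟩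
    exact ((hz'.inf_normalizer_sylow P).le
      ⟨mem_zpowers _, zpowers_le.2 hnN (Element.pPart_mem_zpowers p n)⟩).2
  obtain ⟨s, hs⟩ := FGSev.pElem_of_mem P.2 hxP
  obtain ⟨e, he⟩ := hgen' (m * x * m⁻¹) ((mem_normalizer_iff.1 hmN x).1 hxP)
  have hxe : x ^ (e - 1) ∈ L := by
    rw [zpow_sub_one, he, show m * x * m⁻¹ * x⁻¹ = m * (x * m⁻¹ * x⁻¹) by group]
    exact L.mul_mem hmL (Subgroup.Normal.conj_mem inferInstance _ (L.inv_mem hmL) x)
  obtain ⟨i, hi⟩ := FGSev.exists_pow_commute hs he.symm (FGSev.dvd_of_zpow_mem hs hxL hxe)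
  have hmx : Commute m x :=
    FGSev.commute_of_pow_commute (Element.coprime_orderOf_pComplPart hp n) hi
  obtain ⟨j, hj⟩ := hgen' z hzP₀.1
  obtain ⟨j', hj'⟩ := hgen' _ hwP
  apply hnz
  have hc : Commute n z := by
    rw [← Element.pPart_mul_pComplPart p n, ← hj, ← hj', ← hm]
    exact (((Commute.refl x).zpow_left j').mul_left hmx).zpow_right j
  rw [hc.eq, mul_inv_cancel_right]

end Cfsg.Agent.FGS4
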